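import Groth.Agent.Lib.FerrandEtale.Space
import Groth.Agent.Lib.AlgSpColimit.EtaleFamily
import Groth.Prelude.Def_AlgSpModX

/-!
# The union of two closed subspaces is a pushout
-/

set_option autoImplicit false
set_option linter.style.haveILetI false

universe u

open CategoryTheory CategoryTheory.Limits AlgebraicGeometry
open AlgSp Groth.Agent.Lib.AlgSpace Groth.Agent.Lib.AlgSpMor Groth.Agent.Lib.AlgSpMor.SchImage

namespace Groth.Agent.Lib.FerrandEtale.Union

variable {S : Scheme.{u}}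

/-- The ideal of a representable morphism on an affine chart is the kernel on any represented
pullback. -/
theorem ideal_eq_ker {Z X : Sp S} {i : Z ⟶ X} (hi : AlgSp.Representable i) (E : EtOver X)
    (hE : IsAffine E.obj.left.left) {T : Over S} {fst : (yon S).obj T ⟶ Z} {p : T ⟶ E.obj.left}
    (sq : IsPullback fst ((yon S).map p) i E.obj.hom) :
    (idealOfRep hi).ideal E hE = RingHom.ker p.left.appTop.hom := by
  obtain ⟨e, he⟩ := (yon S).map_surjective (sq.isoIsPullback _ _ (hi.isPullback E.obj.hom)).hom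
  haveI : IsIso ((yon S).map e) := by rw [he]; infer_instance
  haveI : IsIso e := isIso_of_reflects_iso e (yon S)
  have h : e ≫ EtOver.bcπ hi E = p := (yon S).map_injective (by
    rw [Functor.map_comp, he]
    exact sq.isoIsPullback_hom_snd _ _ (hi.isPullback E.obj.hom))
  haveI : IsIso e.left := inferInstanceAs (IsIso ((Over.forget S).map e))
  haveI : IsIso e.left.appTop := inferInstanceAs (IsIso (e.left.app ⊤))
  show RingHom.ker (EtOver.bcπ hi E).left.appTop.hom = _
  rw [← h, Over.comp_left, Scheme.Hom.comp_appTop, CommRingCat.hom_comp,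
    RingHom.ker_comp_of_injective _ (ConcreteCategory.bijective_of_isIso e.left.appTop).1]
  rfl

/-- A morphism whose composite with a monomorphism is a closed immersion is one. -/
theorem repWith_of_comp_mono {Y W X : Sp S} {a : Y ⟶ W} {w : W ⟶ X} {i : Y ⟶ X} [Mono w]
    (h : a ≫ w = i) (hi : RepWith @IsClosedImmersion i) : RepWith @IsClosedImmersion a := by
  refine repWith_of_exists fun T ξ => ?_
  obtain ⟨V, v, fst, sq, hv⟩ := repWith_exists hi (ξ ≫ w)
  have hw : fst ≫ a = (yon S).map v ≫ ξ := by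
    rw [← cancel_mono w, Category.assoc, Category.assoc, h, sq.w]
  refine ⟨V, v, fst, ⟨⟨hw⟩, ⟨PullbackCone.IsLimit.mk _
    (fun s => sq.lift s.fst s.snd (by rw [← h, reassoc_of% s.condition]))
    (fun s => sq.lift_fst _ _ _) (fun s => sq.lift_snd _ _ _) fun s m h₁ h₂ => sq.hom_ext
      (h₁.trans (sq.lift_fst _ _ _).symm) (h₂.trans (sq.lift_snd _ _ _).symm)⟩⟩, hv⟩

theorem isSq_of_ker {R B A' A T : Type u} [CommRing R] [CommRing B] [CommRing A'] [CommRing A]
    [CommRing T] {r : R →+* B} {s : R →+* A'} {q : B →+* A} {p : A' →+* A} (πR : T →+* R)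
    (πB : T →+* B) (πA' : T →+* A') (πA : T →+* A) (hr : r.comp πR = πB) (hs : s.comp πR = πA')
    (hq : q.comp πB = πA) (hp : p.comp πA' = πA) (hR : Function.Surjective πR)
    (hB : Function.Surjective πB) (hA' : Function.Surjective πA') (hA : Function.Surjective πA)
    (k₁ : RingHom.ker πR = RingHom.ker πA' ⊓ RingHom.ker πB)
    (k₂ : RingHom.ker πA = RingHom.ker πA' ⊔ RingHom.ker πB) :
    Ferrand.IsSq r s q p := by
  subst hr hs
  refine ⟨fun x => ?_, fun z => ?_, fun x y hx hy => ?_, fun b a hba => ?_⟩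
  · obtain ⟨t, rfl⟩ := hR x
    exact (congr($hq t)).trans (congr($hp t)).symm
  · obtain ⟨t, rfl⟩ := hA z
    exact ⟨(s.comp πR) t, congr($hp t)⟩
  · obtain ⟨t, rfl⟩ := hR x
    obtain ⟨t', rfl⟩ := hR y
    have : t - t' ∈ RingHom.ker πR := by
      rw [k₁]
      exact ⟨by simp [hy], by simp [hx]⟩
    rwa [RingHom.mem_ker, map_sub, sub_eq_zero] at this
  · obtain ⟨t, rfl⟩ := hB b
    obtain ⟨t', rfl⟩ := hA' a
    have : t - t' ∈ RingHom.ker πA := by
      rw [RingHom.mem_ker, map_sub, sub_eq_zero]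
      exact (congr($hq t)).symm.trans (hba.trans congr($hp t'))
    rw [k₂] at this
    obtain ⟨x, hx, y, hy, hxy⟩ := Submodule.mem_sup.1 this
    refine ⟨πR (t' + x), ?_, ?_⟩
    · show (r.comp πR) (t' + x) = (r.comp πR) t
      rw [← sub_eq_zero, ← map_sub, show t' + x - t = -y by linear_combination hxy, map_neg,
        RingHom.mem_ker.1 hy, neg_zero]
    · show (s.comp πR) (t' + x) = _
      rw [map_add, RingHom.mem_ker.1 hx, add_zero]

variable {X Y Z W V : AlgSp.Space S} {iY : Y ⟶ X} {iZ : Z ⟶ X} {w : W ⟶ X} {v : V ⟶ X}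
  {I J K : AlgSp.IdealEt X.obj}
  (hK : ∀ (E : AlgSp.EtOver X.obj) (hE : IsAffine E.obj.left.left),
    K.ideal E hE = I.ideal E hE ⊓ J.ideal E hE)
  (hY : AlgSp.IsCutOutBy I iY.hom) (hZ : AlgSp.IsCutOutBy J iZ.hom) (hW : AlgSp.IsCutOutBy K w.hom)
  (hV : AlgSp.IsCutOutBy (I ⊔ J) v.hom) {a : Y ⟶ W} {b : Z ⟶ W} {c : V ⟶ Y} {d : V ⟶ Z}
  (ha : a ≫ w = iY) (hb : b ≫ w = iZ) (hc : c ≫ iY = v) (hd : d ≫ iZ = v)

/-- A map out of a chart of the union with given restrictions. -/
def Spec' {T : Sp S} (g : Y.obj ⟶ T) (k : Z.obj ⟶ T) {P : Over S} (fW : (yon S).obj P ⟶ W.obj)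
    (m : (yon S).obj P ⟶ T) : Prop :=
  (∀ (Q : Over S) (r : Q ⟶ P) (y : (yon S).obj Q ⟶ Y.obj), (yon S).map r ≫ fW = y ≫ a.hom →
    (yon S).map r ≫ m = y ≫ g) ∧
  ∀ (Q : Over S) (r : Q ⟶ P) (z : (yon S).obj Q ⟶ Z.obj), (yon S).map r ≫ fW = z ≫ b.hom →
    (yon S).map r ≫ m = z ≫ k

include hK hY hZ hW hV ha hb hc hd

theorem existsUnique_local {T : Sp S} (hT : IsAlgSpace T) (g : Y.obj ⟶ T) (k : Z.obj ⟶ T)
    (hgk : c.hom ≫ g = d.hom ≫ k) {E : Over S} [IsAffine E.left] (ξ : (yon S).obj E ⟶ X.obj)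
    (hξ : RepWith @Etale ξ) {P : Over S} {fW : (yon S).obj P ⟶ W.obj} {πW : P ⟶ E}
    (sqW : IsPullback fW ((yon S).map πW) w.hom ξ) :
    ∃! m : (yon S).obj P ⟶ T, Spec' (a := a) (b := b) g k fW m := by
  obtain ⟨hYc, hYk⟩ := hY
  obtain ⟨hZc, hZk⟩ := hZ
  obtain ⟨hWc, hWk⟩ := hW
  obtain ⟨hVc, hVk⟩ := hV
  haveI := mono_of_closedImmersion hWc
  have ha' : a.hom ≫ w.hom = iY.hom := congrArg InducedCategory.Hom.hom ha
  have hb' : b.hom ≫ w.hom = iZ.hom := congrArg InducedCategory.Hom.hom hb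
  have hc' : c.hom ≫ iY.hom = v.hom := congrArg InducedCategory.Hom.hom hc
  have hd' : d.hom ≫ iZ.hom = v.hom := congrArg InducedCategory.Hom.hom hd
  obtain ⟨PY, πY, fY, sqY, cY⟩ := repWith_exists hYc ξ
  obtain ⟨PZ, πZ, fZ, sqZ, cZ⟩ := repWith_exists hZc ξ
  obtain ⟨PV, πV, fV, sqV, cV⟩ := repWith_exists hVc ξ
  have cW : IsClosedImmersion πW.left := repWith_property hWc sqW
  obtain ⟨at', hat⟩ := (yon S).map_surjective
    (sqW.lift (fY ≫ a.hom) ((yon S).map πY) (by rw [Category.assoc, ha', sqY.w]))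
  obtain ⟨bt, hbt⟩ := (yon S).map_surjective
    (sqW.lift (fZ ≫ b.hom) ((yon S).map πZ) (by rw [Category.assoc, hb', sqZ.w]))
  obtain ⟨ct, hct⟩ := (yon S).map_surjective
    (sqY.lift (fV ≫ c.hom) ((yon S).map πV) (by rw [Category.assoc, hc', sqV.w]))
  obtain ⟨dt, hdt⟩ := (yon S).map_surjective
    (sqZ.lift (fV ≫ d.hom) ((yon S).map πV) (by rw [Category.assoc, hd', sqV.w]))
  have ea₁ : (yon S).map at' ≫ fW = fY ≫ a.hom := by rw [hat, sqW.lift_fst]
  have eb₁ : (yon S).map bt ≫ fW = fZ ≫ b.hom := by rw [hbt, sqW.lift_fst]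
  have ec₁ : (yon S).map ct ≫ fY = fV ≫ c.hom := by rw [hct, sqY.lift_fst]
  have ed₁ : (yon S).map dt ≫ fZ = fV ≫ d.hom := by rw [hdt, sqZ.lift_fst]
  have ea : at' ≫ πW = πY := (yon S).map_injective (by rw [Functor.map_comp, hat, sqW.lift_snd])
  have eb : bt ≫ πW = πZ := (yon S).map_injective (by rw [Functor.map_comp, hbt, sqW.lift_snd])
  have ec : ct ≫ πY = πV := (yon S).map_injective (by rw [Functor.map_comp, hct, sqY.lift_snd])
  have ed : dt ≫ πZ = πV := (yon S).map_injective (by rw [Functor.map_comp, hdt, sqZ.lift_snd])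
  haveI : Mono πW.left := inferInstance
  haveI : Mono πW := (Over.forget S).mono_of_mono_map (inferInstanceAs (Mono πW.left))
  have hw : ct ≫ at' = dt ≫ bt := by
    rw [← cancel_mono πW, Category.assoc, Category.assoc, ea, eb, ec, ed]
  have eaL : at'.left ≫ πW.left = πY.left := congrArg (fun m => m.left) ea
  have ebL : bt.left ≫ πW.left = πZ.left := congrArg (fun m => m.left) eb
  have ecL : ct.left ≫ πY.left = πV.left := congrArg (fun m => m.left) ec
  have edL : dt.left ≫ πZ.left = πV.left := congrArg (fun m => m.left) ed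
  haveI : IsAffine P.left := isAffine_of_isAffineHom πW.left
  haveI : IsAffine PY.left := isAffine_of_isAffineHom πY.left
  haveI : IsAffine PZ.left := isAffine_of_isAffineHom πZ.left
  haveI : IsAffine PV.left := isAffine_of_isAffineHom πV.left
  haveI : IsClosedImmersion (at'.left ≫ πW.left) := eaL.symm ▸ cY
  haveI : IsClosedImmersion (bt.left ≫ πW.left) := ebL.symm ▸ cZ
  haveI : IsClosedImmersion (ct.left ≫ πY.left) := ecL.symm ▸ cV
  haveI : IsClosedImmersion (dt.left ≫ πZ.left) := edL.symm ▸ cV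
  haveI : IsClosedImmersion at'.left := .of_comp at'.left πW.left
  haveI : IsClosedImmersion bt.left := .of_comp bt.left πW.left
  haveI : IsClosedImmersion ct.left := .of_comp ct.left πY.left
  haveI : IsClosedImmersion dt.left := .of_comp dt.left πZ.left
  have hsurj : ∀ {A B : Scheme.{u}} (f : A ⟶ B) [IsClosedImmersion f] [IsAffine B],
      Function.Surjective f.appTop.hom := fun f _ _ => f.app_surjective ⊤ (isAffineOpen_top _)
  let Eo : EtOver X.obj := EtOver.mk ξ hξ
  have hEa : IsAffine Eo.obj.left.left := ‹IsAffine E.left›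
  have kY : RingHom.ker πY.left.appTop.hom = I.ideal Eo hEa := by
    rw [← hYk]; exact (ideal_eq_ker hYc.1 Eo hEa sqY).symm
  have kZ : RingHom.ker πZ.left.appTop.hom = J.ideal Eo hEa := by
    rw [← hZk]; exact (ideal_eq_ker hZc.1 Eo hEa sqZ).symm
  have kW : RingHom.ker πW.left.appTop.hom = I.ideal Eo hEa ⊓ J.ideal Eo hEa := by
    rw [← hK, ← hWk]; exact (ideal_eq_ker hWc.1 Eo hEa sqW).symm
  have kV : RingHom.ker πV.left.appTop.hom = I.ideal Eo hEa ⊔ J.ideal Eo hEa := by
    rw [← IdealEt.sup_ideal, ← hVk]; exact (ideal_eq_ker hVc.1 Eo hEa sqV).symm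
  have hAff : Ferrand.AffSq ct.left dt.left at'.left bt.left :=
    { affZ := inferInstance
      affX := inferInstance
      affY := inferInstance
      affP := inferInstance
      w := congrArg (fun m => m.left) hw
      sq := isSq_of_ker πW.left.appTop.hom πZ.left.appTop.hom πY.left.appTop.hom
        πV.left.appTop.hom
        (by rw [← CommRingCat.hom_comp, ← Scheme.Hom.comp_appTop, ebL])
        (by rw [← CommRingCat.hom_comp, ← Scheme.Hom.comp_appTop, eaL])
        (by rw [← CommRingCat.hom_comp, ← Scheme.Hom.comp_appTop, edL])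
        (by rw [← CommRingCat.hom_comp, ← Scheme.Hom.comp_appTop, ecL])
        (hsurj _) (hsurj _) (hsurj _) (hsurj _) (by rw [kW, kY, kZ]) (by rw [kV, kY, kZ]) }
  have hgk' : (yon S).map ct ≫ fY ≫ g = (yon S).map dt ≫ fZ ≫ k := by
    rw [reassoc_of% ec₁, reassoc_of% ed₁, hgk]
  obtain ⟨m, ⟨hm₁, hm₂⟩, hu⟩ := FerrandEtale.existsUnique_desc
    (fun y => ⟨⊤, isAffineOpen_top _, fun _ _ => trivial⟩) hAff.isPushout hw hT (fY ≫ g) (fZ ≫ k)
    hgk'
  refine ⟨m, ⟨fun Q r y hy => ?_, fun Q r z hz => ?_⟩, fun m' hm' => hu m' ⟨?_, ?_⟩⟩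
  · have hy' : y ≫ iY.hom = (yon S).map (r ≫ πW) ≫ ξ := by
      rw [← ha', ← Category.assoc, ← hy, Category.assoc, sqW.w, Functor.map_comp, Category.assoc]
    obtain ⟨l, hl⟩ := (yon S).map_surjective (sqY.lift y ((yon S).map (r ≫ πW)) hy')
    have h1 : (yon S).map l ≫ fY = y := by rw [hl, sqY.lift_fst]
    have h2 : l ≫ at' = r := by
      rw [← cancel_mono πW, Category.assoc, ea]
      exact (yon S).map_injective (by rw [Functor.map_comp, hl, sqY.lift_snd])
    rw [← h2, Functor.map_comp, Category.assoc, hm₁, ← Category.assoc, h1]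
  · have hz' : z ≫ iZ.hom = (yon S).map (r ≫ πW) ≫ ξ := by
      rw [← hb', ← Category.assoc, ← hz, Category.assoc, sqW.w, Functor.map_comp, Category.assoc]
    obtain ⟨l, hl⟩ := (yon S).map_surjective (sqZ.lift z ((yon S).map (r ≫ πW)) hz')
    have h1 : (yon S).map l ≫ fZ = z := by rw [hl, sqZ.lift_fst]
    have h2 : l ≫ bt = r := by
      rw [← cancel_mono πW, Category.assoc, eb]
      exact (yon S).map_injective (by rw [Functor.map_comp, hl, sqZ.lift_snd])
    rw [← h2, Functor.map_comp, Category.assoc, hm₂, ← Category.assoc, h1]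
  · exact hm'.1 PY at' fY ea₁
  · exact hm'.2 PZ bt fZ eb₁

omit hK hY hZ hW hV ha hb hc hd in
/-- The characterising property restricts along morphisms. -/
theorem Spec'.comp {T : Sp S} {g : Y.obj ⟶ T} {k : Z.obj ⟶ T} {P P' : Over S}
    {fW : (yon S).obj P ⟶ W.obj} {m : (yon S).obj P ⟶ T} (h : Spec' (a := a) (b := b) g k fW m)
    (q : P' ⟶ P) : Spec' (a := a) (b := b) g k ((yon S).map q ≫ fW) ((yon S).map q ≫ m) := by
  refine ⟨fun Q r y hy => ?_, fun Q r z hz => ?_⟩
  · rw [← Functor.map_comp_assoc]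
    exact h.1 Q (r ≫ q) y (by rw [Functor.map_comp, Category.assoc, hy])
  · rw [← Functor.map_comp_assoc]
    exact h.2 Q (r ≫ q) z (by rw [Functor.map_comp, Category.assoc, hz])

/-- Uniqueness on an etale scheme over `X`. -/
theorem eq_of_spec {T : Sp S} (hT : IsAlgSpace T) (g : Y.obj ⟶ T) (k : Z.obj ⟶ T)
    (hgk : c.hom ≫ g = d.hom ≫ k) {R : Over S} (ξ : (yon S).obj R ⟶ X.obj)
    (hξ : RepWith @Etale ξ) {P : Over S} {fW : (yon S).obj P ⟶ W.obj} {πW : P ⟶ R}
    (sqW : IsPullback fW ((yon S).map πW) w.hom ξ) {m m' : (yon S).obj P ⟶ T}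
    (h : Spec' (a := a) (b := b) g k fW m) (h' : Spec' (a := a) (b := b) g k fW m') : m = m' := by
  let 𝒰 := R.left.affineCover
  let O : 𝒰.I₀ → Over S := fun i => Over.mk (𝒰.f i ≫ R.hom)
  let o : ∀ i, O i ⟶ R := fun i => Over.homMk (𝒰.f i) rfl
  let Q : 𝒰.I₀ → Over S := fun i => Over.mk (pullback.fst πW.left (𝒰.f i) ≫ P.hom)
  let q : ∀ i, Q i ⟶ P := fun i => Over.homMk (pullback.fst πW.left (𝒰.f i)) rfl
  let qO : ∀ i, Q i ⟶ O i := fun i => Over.homMk (pullback.snd πW.left (𝒰.f i)) (by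
    show pullback.snd πW.left (𝒰.f i) ≫ 𝒰.f i ≫ R.hom = pullback.fst πW.left (𝒰.f i) ≫ P.hom
    rw [← reassoc_of% pullback.condition (f := πW.left) (g := 𝒰.f i), Over.w πW])
  have sq : ∀ i, IsPullback (q i) (qO i) πW (o i) := fun i =>
    IsPullback.of_map_of_faithful (Over.forget S) (IsPullback.of_hasPullback πW.left (𝒰.f i))
  refine hom_ext_of_family Q q (ofArrows_mem_J Q q
    (fun i => inferInstanceAs (Flat (pullback.fst πW.left (𝒰.f i))))
    (fun i => inferInstanceAs (LocallyOfFinitePresentation (pullback.fst πW.left (𝒰.f i))))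
    fun x => ?_) fun i => ?_
  · obtain ⟨i, y, hy⟩ := 𝒰.exists_eq (πW.left x)
    obtain ⟨z, hz, -⟩ := Scheme.Pullback.exists_preimage_pullback x y hy.symm
    exact ⟨i, z, hz⟩
  · haveI : IsAffine (O i).left := inferInstanceAs (IsAffine (𝒰.X i))
    have he : RepWith @Etale ((yon S).map (o i) ≫ ξ) :=
      repWith_comp (repWith_etale_yon_map (inferInstanceAs (Etale (𝒰.f i)))) hξ
    have sqi : IsPullback ((yon S).map (q i) ≫ fW) ((yon S).map (qO i)) w.hom
        ((yon S).map (o i) ≫ ξ) := (isPullback_yon (sq i)).paste_horiz sqW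
    exact (existsUnique_local hK hY hZ hW hV ha hb hc hd hT g k hgk _ he sqi).unique
      (h.comp (q i)) (h'.comp (q i))

/-- The union of two closed subspaces is their pushout along the intersection. -/
theorem existsUnique_desc {T : Sp S} (hT : IsAlgSpace T) (g : Y.obj ⟶ T) (k : Z.obj ⟶ T)
    (hgk : c.hom ≫ g = d.hom ≫ k) : ∃! m : W.obj ⟶ T, a.hom ≫ m = g ∧ b.hom ≫ m = k := by
  obtain ⟨κ, O, e, hO, he, hs⟩ := AlgSpColimit.exists_affine_family X.property
  choose P πW fW sqW _ using fun j => repWith_exists hW.choose (e j)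
  haveI := hO
  have heW : ∀ j, RepWith @Etale (fW j) := fun j => repWith_baseChange (sqW j).flip (he j)
  have hsW : ∀ x : Points W.obj, ∃ j o, Points.ofPt (fW j) o = x := by
    intro x
    obtain ⟨Q, ζ, t, rfl⟩ := exists_ofPt_eq x
    obtain ⟨j, o, ho⟩ := hs (Points.ofPt (ζ ≫ w.hom) t)
    obtain ⟨R, p₁, p₂, sqR⟩ := exists_isPullback_yon X.property.diag (ζ ≫ w.hom) (e j)
    obtain ⟨r, hr, -⟩ := (ofPt_eq_ofPt_iff_of_isPullback sqR t o).1 ho.symm
    obtain ⟨l, hl⟩ := (yon S).map_surjective ((sqW j).lift ((yon S).map p₁ ≫ ζ) ((yon S).map p₂)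
      (by rw [Category.assoc, sqR.w]))
    refine ⟨j, l.left r, ?_⟩
    rw [← hr, ← ofPt_yon_map_comp, ← ofPt_yon_map_comp, hl, (sqW j).lift_fst]
  choose μ hμ using fun j =>
    (existsUnique_local hK hY hZ hW hV ha hb hc hd hT g k hgk (e j) (he j) (sqW j)).exists
  obtain ⟨m, hm⟩ := AlgSpColimit.exists_desc_family W.property heW hsW μ fun j l Q gj gl hq => by
    obtain ⟨R, r₁, r₂, sqR⟩ := exists_isPullback_yon X.property.diag (e j) (e l)
    have hr₁ : Etale r₁.left := repWith_property (he l) sqR.flip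
    have hre : RepWith @Etale ((yon S).map r₁ ≫ e j) :=
      repWith_comp (repWith_etale_yon_map hr₁) (he j)
    obtain ⟨P', π', f', sqP, -⟩ := repWith_exists hW.choose ((yon S).map r₁ ≫ e j)
    obtain ⟨s₁, hs₁⟩ := (yon S).map_surjective ((sqW j).lift f' ((yon S).map (π' ≫ r₁))
      (by rw [sqP.w, Functor.map_comp, Category.assoc]))
    obtain ⟨s₂, hs₂⟩ := (yon S).map_surjective ((sqW l).lift f' ((yon S).map (π' ≫ r₂))
      (by rw [sqP.w, sqR.w, Functor.map_comp, Category.assoc]))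
    have f₁ : (yon S).map s₁ ≫ fW j = f' := by rw [hs₁, (sqW j).lift_fst]
    have f₂ : (yon S).map s₂ ≫ fW l = f' := by rw [hs₂, (sqW l).lift_fst]
    have p₁ : s₁ ≫ πW j = π' ≫ r₁ := (yon S).map_injective (by
      rw [Functor.map_comp, hs₁, (sqW j).lift_snd])
    have p₂ : s₂ ≫ πW l = π' ≫ r₂ := (yon S).map_injective (by
      rw [Functor.map_comp, hs₂, (sqW l).lift_snd])
    have heq : (yon S).map s₁ ≫ μ j = (yon S).map s₂ ≫ μ l := by
      refine eq_of_spec hK hY hZ hW hV ha hb hc hd hT g k hgk _ hre sqP ?_ ?_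
      · rw [← f₁]; exact (hμ j).comp s₁
      · rw [← f₂]; exact (hμ l).comp s₂
    obtain ⟨n, hn⟩ := (yon S).map_surjective (sqR.lift ((yon S).map (gj ≫ πW j))
      ((yon S).map (gl ≫ πW l)) (by
        rw [Functor.map_comp, Functor.map_comp, Category.assoc, Category.assoc, ← (sqW j).w,
          ← (sqW l).w, reassoc_of% hq]))
    obtain ⟨n', hn'⟩ := (yon S).map_surjective (sqP.lift ((yon S).map gj ≫ fW j) ((yon S).map n)
      (by rw [Category.assoc, (sqW j).w, hn, sqR.lift_fst_assoc, Functor.map_comp, Category.assoc]))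
    have n₁ : n' ≫ s₁ = gj := (yon S).map_injective ((sqW j).hom_ext
      (by rw [Functor.map_comp, Category.assoc, f₁, hn', sqP.lift_fst])
      (by rw [← Functor.map_comp, ← Functor.map_comp, Category.assoc, p₁, ← Category.assoc,
        Functor.map_comp, Functor.map_comp, hn', sqP.lift_snd, hn, sqR.lift_fst]))
    have n₂ : n' ≫ s₂ = gl := (yon S).map_injective ((sqW l).hom_ext
      (by rw [Functor.map_comp, Category.assoc, f₂, hn', sqP.lift_fst, hq])
      (by rw [← Functor.map_comp, ← Functor.map_comp, Category.assoc, p₂, ← Category.assoc,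
        Functor.map_comp, Functor.map_comp, hn', sqP.lift_snd, hn, sqR.lift_snd]))
    rw [← n₁, ← n₂, Functor.map_comp, Functor.map_comp, Category.assoc, Category.assoc, heq]
  have hga : a.hom ≫ m = g := AlgSpace.hom_ext fun Q y => by
    obtain ⟨R, p, q, sq, hcov⟩ := AlgSpColimit.exists_cover W.property heW hsW (y ≫ a.hom)
    refine hom_ext_of_family R p hcov fun j => ?_
    have e1 := (sq j).w
    rw [← Category.assoc] at e1
    rw [← Category.assoc y a.hom m, ← Category.assoc ((yon S).map (p j)) (y ≫ a.hom) m,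
      ← Category.assoc ((yon S).map (p j)) y a.hom, e1, Category.assoc, hm, ← Category.assoc]
    exact (hμ j).1 _ (q j) _ e1.symm
  have hkb : b.hom ≫ m = k := AlgSpace.hom_ext fun Q y => by
    obtain ⟨R, p, q, sq, hcov⟩ := AlgSpColimit.exists_cover W.property heW hsW (y ≫ b.hom)
    refine hom_ext_of_family R p hcov fun j => ?_
    have e1 := (sq j).w
    rw [← Category.assoc] at e1
    rw [← Category.assoc y b.hom m, ← Category.assoc ((yon S).map (p j)) (y ≫ b.hom) m,
      ← Category.assoc ((yon S).map (p j)) y b.hom, e1, Category.assoc, hm, ← Category.assoc]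
    exact (hμ j).2 _ (q j) _ e1.symm
  refine ⟨m, ⟨hga, hkb⟩, fun m' hm' => AlgSpColimit.hom_ext_family W.property heW hsW fun j => ?_⟩
  refine (existsUnique_local hK hY hZ hW hV ha hb hc hd hT g k hgk (e j) (he j) (sqW j)).unique
    ⟨fun Q r y hy => ?_, fun Q r z hz => ?_⟩ (by rw [hm]; exact hμ j)
  · rw [← Category.assoc, hy, Category.assoc, hm'.1]
  · rw [← Category.assoc, hz, Category.assoc, hm'.2]

end Groth.Agent.Lib.FerrandEtale.Union
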