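import Groth.Agent.Lib.AffThick.Pushout.Glue
import Mathlib.RingTheory.Kaehler.TensorProduct
import Mathlib.AlgebraicGeometry.Morphisms.Etale
import Mathlib.AlgebraicGeometry.Morphisms.FormallyUnramified

/-!
# Etale morphisms to pushouts along closed immersions
-/

set_option autoImplicit false

universe u

open CategoryTheory CategoryTheory.Limits AlgebraicGeometry TensorProduct

namespace Groth.Agent.Lib.FerrandEtale

section Ring

/-- Along a Milnor square, a module vanishing on both pieces vanishes. -/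
theorem eq_zero_of_tmul {R B C M : Type u} [CommRing R] [CommRing B] [CommRing C] [Algebra R B]
    [Algebra R C] [AddCommGroup M] [Module R M] (hB : Function.Surjective (algebraMap R B))
    (hext : ∀ x, algebraMap R B x = 0 → algebraMap R C x = 0 → x = 0)
    (himg : ∀ (x : R) (c : C), algebraMap R B x = 0 →
      ∃ y, algebraMap R B y = 0 ∧ algebraMap R C y = algebraMap R C x * c)
    (h₁ : ∀ m : M, (1 : B) ⊗ₜ[R] m = 0) (h₂ : ∀ m : M, (1 : C) ⊗ₜ[R] m = 0) (m : M) : m = 0 := by
  have key : ∀ j, algebraMap R B j = 0 → ∀ m : M, j • m = 0 := by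
    intro j hj m
    choose y hy₁ hy₂ using fun c => himg j c hj
    have huniq : ∀ c z, algebraMap R B z = 0 → algebraMap R C z = algebraMap R C j * c → z = y c :=
      fun c z hz₁ hz₂ => sub_eq_zero.mp (hext _ (by rw [map_sub, hz₁, hy₁, sub_zero])
        (by rw [map_sub, hz₂, hy₂, sub_self]))
    let yl : C →ₗ[R] R :=
      { toFun := y
        map_add' := fun a b => (huniq _ _ (by rw [map_add, hy₁, hy₁, add_zero])
          (by rw [map_add, hy₂, hy₂, mul_add])).symm
        map_smul' := fun r a => (huniq _ _ (by rw [smul_eq_mul, RingHom.id_apply, map_mul, hy₁, mul_zero])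
          (by rw [smul_eq_mul, RingHom.id_apply, map_mul, hy₂, Algebra.smul_def]; ring)).symm }
    let Φ : C ⊗[R] M →ₗ[R] M :=
      (TensorProduct.lid R M).toLinearMap ∘ₗ yl.rTensor M
    have := congrArg Φ (h₂ m)
    rw [map_zero] at this
    simpa [Φ, yl, ← huniq 1 j hj (mul_one _).symm] using this
  let J : Submodule R R := LinearMap.ker (Algebra.linearMap R B)
  have hex : Function.Exact J.subtype (Algebra.linearMap R B) :=
    LinearMap.exact_subtype_ker_map _
  obtain ⟨u, hu⟩ := (rTensor_exact M hex hB ((1 : R) ⊗ₜ m)).mp (by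
    rw [LinearMap.rTensor_tmul]
    simpa using h₁ m)
  have hz : ∀ u, TensorProduct.lid R M (J.subtype.rTensor M u) = 0 := by
    intro u
    induction u using TensorProduct.induction_on with
    | zero => simp
    | tmul j x =>
      rw [LinearMap.rTensor_tmul, TensorProduct.lid_tmul]
      exact key j.1 j.2 x
    | add a b ha hb => rw [map_add, map_add, ha, hb, add_zero]
  have := hz u
  rw [hu, TensorProduct.lid_tmul, one_smul] at this
  exact this

variable {R B A' A D DB DC : CommRingCat.{u}} {r : R ⟶ B} {s : R ⟶ A'} {q : B ⟶ A} {p : A' ⟶ A}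
  {κ : R ⟶ D} {δ : B ⟶ DB} {γ : A' ⟶ DC} {r₁ : D ⟶ DB} {s₁ : D ⟶ DC}

attribute [local instance] Algebra.TensorProduct.rightAlgebra in
/-- Differentials of `D` die after base change to an unramified piece. -/
theorem tmul_kaehler_eq_zero (hB : IsPushout r κ δ r₁) (h₁ : δ.hom.FormallyUnramified) :
    letI := r.hom.toAlgebra
    letI := κ.hom.toAlgebra
    ∀ m : Ω[D⁄R], (1 : B) ⊗ₜ[R] m = 0 := by
  letI := r.hom.toAlgebra
  letI := κ.hom.toAlgebra
  letI := δ.hom.toAlgebra
  letI := r₁.hom.toAlgebra
  letI := (r ≫ δ).hom.toAlgebra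
  have : IsScalarTower R B DB := .of_algebraMap_eq fun _ => rfl
  have : IsScalarTower R D DB := .of_algebraMap_eq fun x => congr($hB.w x)
  have : Algebra.IsPushout R B D DB := CommRingCat.isPushout_iff_isPushout.mp hB
  have : Algebra.FormallyUnramified B DB := h₁
  intro m
  exact (KaehlerDifferential.tensorKaehlerEquivBase R B D DB).injective (Subsingleton.elim _ _)

/-- Formal unramifiedness glues along a Milnor square. -/
theorem formallyUnramified_hom (h : Ferrand.IsSq r.hom s.hom q.hom p.hom)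
    (hB : IsPushout r κ δ r₁) (hC : IsPushout s κ γ s₁) (h₁ : δ.hom.FormallyUnramified)
    (h₂ : γ.hom.FormallyUnramified) : κ.hom.FormallyUnramified := by
  have k₁ := tmul_kaehler_eq_zero hB h₁
  have k₂ := tmul_kaehler_eq_zero hC h₂
  letI := r.hom.toAlgebra
  letI := s.hom.toAlgebra
  letI := κ.hom.toAlgebra
  show Algebra.FormallyUnramified R D
  refine ⟨subsingleton_of_forall_eq 0 fun m => ?_⟩
  exact eq_zero_of_tmul (B := B) (C := A') h.surjective_left
    (fun x h₁ h₂ => h.ext x 0 (h₁.trans (map_zero r.hom).symm) (h₂.trans (map_zero s.hom).symm))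
    (fun x c hx => by
      obtain ⟨y, hy, hy'⟩ := h.exists_of_mem_ker (a := s.hom x * c)
        (by rw [map_mul, ← h.comm, show r.hom x = 0 from hx, map_zero, zero_mul])
      exact ⟨y, hy, hy'⟩) k₁ k₂ m

end Ring

variable {X Y Z P X' Y' P' : Scheme.{u}} {i : Z ⟶ X} {j : Z ⟶ Y} {a : X ⟶ P} {b : Y ⟶ P}
  {f : X' ⟶ X} {g : Y' ⟶ Y} {a' : X' ⟶ P'} {b' : Y' ⟶ P'} {k : P' ⟶ P}

set_option backward.isDefEq.respectTransparency false in
/-- A cartesian map to a glued pushout is etale if it is so on both pieces. -/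
theorem etale_of_isPullback [IsClosedImmersion i] (h : Ferrand.GluedBy i j a b)
    (qa : IsPullback f a' a k) (qb : IsPullback g b' b k) [Etale f] [Etale g]
    [LocallyOfFiniteType k] : Etale k := by
  have loc : ∀ p : P', ∃ (O : P.Opens) (O' : P'.Opens) (_ : p ∈ O') (e : O' ≤ k ⁻¹ᵁ O),
      Etale (k.resLE O O' e) := by
    intro p
    obtain ⟨O, hO, hpO, -⟩ := exists_isAffineOpen_mem_and_subset (x := k p) (U := ⊤) trivial
    obtain ⟨O', hO', hpO', hle'⟩ := exists_isAffineOpen_mem_and_subset
      (x := p) (U := k ⁻¹ᵁ O) hpO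
    have e : O' ≤ k ⁻¹ᵁ O := hle'
    have ea : a' ⁻¹ᵁ O' ≤ f ⁻¹ᵁ (a ⁻¹ᵁ O) := by
      rw [← Scheme.Hom.comp_preimage, qa.w]
      exact fun x hx => e hx
    have eb : b' ⁻¹ᵁ O' ≤ g ⁻¹ᵁ (b ⁻¹ᵁ O) := by
      rw [← Scheme.Hom.comp_preimage, qb.w]
      exact fun x hx => e hx
    have e₁ : i ⁻¹ᵁ (a ⁻¹ᵁ O) ≤ j ⁻¹ᵁ (b ⁻¹ᵁ O) := by
      rw [← Scheme.Hom.comp_preimage, ← Scheme.Hom.comp_preimage, h.isPushout.w]
    have hsq := h.affSq_restrict O hO e₁
    have ra := Scheme.Hom.isPullback_resLE qa (US := O) (UT := O') (UX := a ⁻¹ᵁ O) e le_rfl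
      (inf_eq_right.mpr ea).symm
    have rb := Scheme.Hom.isPullback_resLE qb (US := O) (UT := O') (UX := b ⁻¹ᵁ O) e le_rfl
      (inf_eq_right.mpr eb).symm
    have : IsAffine O.toScheme := hO
    have : IsAffine O'.toScheme := hO'
    have := hsq.affX
    have := hsq.affY
    have : IsAffine (a' ⁻¹ᵁ O').toScheme := by
      have := hsq.isAffineHom_left
      exact .of_isPullback ra.flip
    have : IsAffine (b' ⁻¹ᵁ O').toScheme := by
      have := hsq.isClosedImmersion_right
      exact .of_isPullback rb.flip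
    have hef : Etale (f.resLE (a ⁻¹ᵁ O) (a' ⁻¹ᵁ O') ea) := inferInstance
    have heg : Etale (g.resLE (b ⁻¹ᵁ O) (b' ⁻¹ᵁ O') eb) := inferInstance
    have hk : LocallyOfFiniteType (k.resLE O O' e) := IsZariskiLocalAtSource.resLE _ ‹_›
    have pr := isPushout_appTop_of_isPullback rb
    have ps := isPushout_appTop_of_isPullback ra
    have hfl := AffThick.Pushout.flat_hom hsq.sq pr ps
      ((HasRingHomProperty.iff_of_isAffine (P := @Flat)).mp inferInstance)
      ((HasRingHomProperty.iff_of_isAffine (P := @Flat)).mp inferInstance)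
    have hfp := AffThick.Pushout.finitePresentation_hom hsq.sq pr ps hfl
      ((HasRingHomProperty.iff_of_isAffine (P := @LocallyOfFiniteType)).mp hk)
      ((HasRingHomProperty.iff_of_isAffine (P := @LocallyOfFinitePresentation)).mp inferInstance)
      ((HasRingHomProperty.iff_of_isAffine (P := @LocallyOfFinitePresentation)).mp inferInstance)
    have hfu := formallyUnramified_hom hsq.sq pr ps
      ((HasRingHomProperty.iff_of_isAffine (P := @FormallyUnramified)).mp inferInstance)
      ((HasRingHomProperty.iff_of_isAffine (P := @FormallyUnramified)).mp inferInstance)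
    have : Flat (k.resLE O O' e) := (HasRingHomProperty.iff_of_isAffine (P := @Flat)).mpr hfl
    have : LocallyOfFinitePresentation (k.resLE O O' e) :=
      (HasRingHomProperty.iff_of_isAffine (P := @LocallyOfFinitePresentation)).mpr hfp
    have : FormallyUnramified (k.resLE O O' e) :=
      (HasRingHomProperty.iff_of_isAffine (P := @FormallyUnramified)).mpr hfu
    exact ⟨O, O', hpO', e, .of_formallyUnramified_of_flat _⟩
  choose O O' hp e he using loc
  refine (IsZariskiLocalAtSource.iff_of_iSup_eq_top (P := @Etale) O'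
    (eq_top_iff.mpr fun p _ => TopologicalSpace.Opens.mem_iSup.mpr ⟨p, hp p⟩)).mpr fun p => ?_
  rw [← Scheme.Hom.resLE_comp_ι k (e p)]
  have := he p
  infer_instance

end Groth.Agent.Lib.FerrandEtale
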