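import Groth.Agent.Lib.FerrandEtale.Basic
import Groth.Agent.Lib.AlgSpColimit.Scheme
import Groth.Agent.S1465
import Mathlib.AlgebraicGeometry.Morphisms.QuasiFinite

/-!
# Pushouts along closed immersions among algebraic spaces
-/

set_option autoImplicit false
set_option linter.style.haveILetI false

universe u

open CategoryTheory CategoryTheory.Limits AlgebraicGeometry
open AlgSp

namespace Groth.Agent.Lib.FerrandEtale

open WalkingSpan (zero left right)

variable {S : Scheme.{u}} {Z X Y P : Over S} {i : Z ⟶ X} {j : Z ⟶ Y} {a : X ⟶ P} {b : Y ⟶ P}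

/-- Etale base changes of glued pushouts are pushouts of schemes. -/
theorem nonempty_isColimit_baseChange [IsClosedImmersion i.left]
    (h : Ferrand.GluedBy i.left j.left a.left b.left) (w : i ≫ a = j ≫ b)
    (D' : WalkingSpan ⥤ Over S) (α : D' ⟶ span i j) (c' : Cocone D') (e : c'.pt ⟶ P)
    (he : Etale e.left)
    (sq : ∀ l, IsPullback (c'.ι.app l) (α.app l) e ((PushoutCocone.mk a b w).ι.app l)) :
    Nonempty (IsColimit ((Over.forget S).mapCocone c')) := by
  haveI := he
  have sqX : IsPullback (α.app left).left (c'.ι.app left).left a.left e.left :=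
    (sq left).flip.map (Over.forget S)
  have sqY : IsPullback (α.app right).left (c'.ι.app right).left b.left e.left :=
    (sq right).flip.map (Over.forget S)
  have sqZ : IsPullback (α.app zero).left (c'.ι.app zero).left (i.left ≫ a.left) e.left :=
    (sq zero).flip.map (Over.forget S)
  have wi : D'.map WalkingSpan.Hom.fst ≫ c'.ι.app left = c'.ι.app zero := c'.w _
  have wj : D'.map WalkingSpan.Hom.snd ≫ c'.ι.app right = c'.ι.app zero := c'.w _
  have ni : (D'.map WalkingSpan.Hom.fst).left ≫ (α.app left).left = (α.app zero).left ≫ i.left :=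
    congrArg (fun m => m.left) (α.naturality WalkingSpan.Hom.fst)
  have nj : (D'.map WalkingSpan.Hom.snd).left ≫ (α.app right).left = (α.app zero).left ≫ j.left :=
    congrArg (fun m => m.left) (α.naturality WalkingSpan.Hom.snd)
  have wi' : (D'.map WalkingSpan.Hom.fst).left ≫ (c'.ι.app left).left = (c'.ι.app zero).left :=
    congrArg (fun m => m.left) wi
  have wj' : (D'.map WalkingSpan.Hom.snd).left ≫ (c'.ι.app right).left = (c'.ι.app zero).left :=
    congrArg (fun m => m.left) wj
  have sqi : IsPullback (α.app zero).left (D'.map WalkingSpan.Hom.fst).left i.left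
      (α.app left).left := by
    refine IsPullback.of_bot ?_ ni.symm sqX
    rw [wi']
    exact sqZ
  have hP := h.baseChange (𝟙 P.left) e.left (pP := e.left) (gP := 𝟙 c'.pt.left)
    (IsPullback.of_vert_isIso ⟨by simp⟩) sqX sqY sqi nj (wi'.trans wj'.symm) (.inl inferInstance)
  refine ⟨IsColimit.ofExistsUnique fun s => ?_⟩
  have hs : (D'.map WalkingSpan.Hom.fst).left ≫ s.ι.app left =
      (D'.map WalkingSpan.Hom.snd).left ≫ s.ι.app right :=
    (s.w WalkingSpan.Hom.fst).trans (s.w WalkingSpan.Hom.snd).symm
  refine ⟨hP.desc _ _ hs, ?_, fun m hm => hP.hom_ext ?_ ?_⟩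
  · rintro (_ | _ | _)
    · show (c'.ι.app zero).left ≫ _ = _
      rw [← wi', Category.assoc, hP.inl_desc]
      exact s.w WalkingSpan.Hom.fst
    · exact hP.inl_desc _ _ _
    · exact hP.inr_desc _ _ _
  · exact (hm left).trans (hP.inl_desc _ _ _).symm
  · exact (hm right).trans (hP.inr_desc _ _ _).symm

/-- Separated etale systems over a span glue to an etale scheme over the pushout. -/
theorem exists_etale_glue [IsClosedImmersion i.left] [IsIntegralHom j.left]
    (haff : ∀ y : ↥Y.left, ∃ U : X.left.Opens, IsAffineOpen U ∧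
      j.left ⁻¹' {y} ⊆ i.left ⁻¹' (U : Set ↥X.left))
    (hpo : IsPushout i.left j.left a.left b.left) (w : i ≫ a = j ≫ b)
    (D' : WalkingSpan ⥤ Over S) (α : D' ⟶ span i j) (hα : NatTrans.Equifibered α)
    (he : ∀ l, Etale (α.app l).left) (hs : ∀ l, IsSeparated (α.app l).left) :
    ∃ (c' : Cocone D') (e : c'.pt ⟶ P), Etale e.left ∧
      ∀ l, IsPullback (c'.ι.app l) (α.app l) e ((PushoutCocone.mk a b w).ι.app l) := by
  have hX : IsPullback (α.app zero).left (D'.map WalkingSpan.Hom.fst).left i.left
      (α.app left).left := (hα WalkingSpan.Hom.fst).flip.map (Over.forget S)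
  have hY : IsPullback (α.app zero).left (D'.map WalkingSpan.Hom.snd).left j.left
      (α.app right).left := (hα WalkingSpan.Hom.snd).flip.map (Over.forget S)
  let fX : (D'.obj left).left ⟶ X.left := (α.app left).left
  let fY : (D'.obj right).left ⟶ Y.left := (α.app right).left
  let fZ : (D'.obj zero).left ⟶ Z.left := (α.app zero).left
  haveI : Etale fX := he left
  haveI : Etale fY := he right
  haveI : Etale fZ := he zero
  haveI := SourceDescent.Scheme.locallyQuasiFinite_of_etale fX
  haveI := SourceDescent.Scheme.locallyQuasiFinite_of_etale fY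
  haveI := SourceDescent.Scheme.locallyQuasiFinite_of_etale fZ
  haveI : IsSeparated fX := hs left
  haveI : IsSeparated fY := hs right
  haveI : IsSeparated fZ := hs zero
  obtain ⟨W, W', aW, bW, a', b', k, hW, hW', -, -, -, -, hft, pa, pb⟩ :=
    S1465.result i.left j.left haff (D'.map WalkingSpan.Hom.fst).left
      (D'.map WalkingSpan.Hom.snd).left fX fY fZ hX hY
  let φ := hW.isoIsPushout _ _ hpo.flip
  have hφb : aW ≫ φ.hom = b.left := hW.inl_isoIsPushout_hom _ _ hpo.flip
  have hφa : bW ≫ φ.hom = a.left := hW.inr_isoIsPushout_hom _ _ hpo.flip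
  let k' : W' ⟶ P.left := k ≫ φ.hom
  have qa : IsPullback fX b' a.left k' :=
    IsPullback.of_iso pb (Iso.refl _) (Iso.refl _) (Iso.refl _) φ (by simp) (by simp)
      (by simp [hφa]) (by simp [k'])
  have qb : IsPullback fY a' b.left k' :=
    IsPullback.of_iso pa (Iso.refl _) (Iso.refl _) (Iso.refl _) φ (by simp) (by simp)
      (by simp [hφb]) (by simp [k'])
  have hg : Ferrand.GluedBy i.left j.left a.left b.left :=
    .of_isPushout (Ferrand.cover_of_integral i.left j.left haff) hpo
  haveI : LocallyOfFiniteType k' := inferInstanceAs (LocallyOfFiniteType (k ≫ φ.hom))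
  haveI hk : Etale k' := etale_of_isPullback hg qa qb
  let E : Over S := Over.mk (k' ≫ P.hom)
  let lX : D'.obj left ⟶ E := Over.homMk b' (by
    show b' ≫ k' ≫ P.hom = _
    rw [← reassoc_of% qa.w, Over.w a]
    exact Over.w (α.app left))
  let lY : D'.obj right ⟶ E := Over.homMk a' (by
    show a' ≫ k' ≫ P.hom = _
    rw [← reassoc_of% qb.w, Over.w b]
    exact Over.w (α.app right))
  let e : E ⟶ P := Over.homMk k' rfl
  have hw' : D'.map WalkingSpan.Hom.fst ≫ lX = D'.map WalkingSpan.Hom.snd ≫ lY :=
    Over.OverMorphism.ext hW'.w.symm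
  let c' : Cocone D' :=
    { pt := E
      ι :=
        { app := fun l =>
            match l with
            | zero => D'.map WalkingSpan.Hom.fst ≫ lX
            | left => lX
            | right => lY
          naturality := by
            rintro _ _ (_ | (_ | _))
            · simp
            · simp
            · simpa using hw'.symm } }
  have sX : IsPullback (c'.ι.app left) (α.app left) e a :=
    IsPullback.of_map_of_faithful (Over.forget S) qa.flip
  have sY : IsPullback (c'.ι.app right) (α.app right) e b :=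
    IsPullback.of_map_of_faithful (Over.forget S) qb.flip
  refine ⟨c', e, hk, ?_⟩
  rintro (_ | _ | _)
  · exact (hα WalkingSpan.Hom.fst).paste_horiz sX
  · exact sX
  · exact sY

/-- A pushout of schemes along a closed immersion and an integral morphism stays a pushout
among algebraic spaces. -/
theorem existsUnique_desc [IsClosedImmersion i.left] [IsIntegralHom j.left]
    (haff : ∀ y : ↥Y.left, ∃ U : X.left.Opens, IsAffineOpen U ∧
      j.left ⁻¹' {y} ⊆ i.left ⁻¹' (U : Set ↥X.left))
    (hpo : IsPushout i.left j.left a.left b.left) (w : i ≫ a = j ≫ b)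
    {T : Sp S} (hT : IsAlgSpace T) (g : (yon S).obj X ⟶ T) (k : (yon S).obj Y ⟶ T)
    (hgk : (yon S).map i ≫ g = (yon S).map j ≫ k) :
    ∃! c : (yon S).obj P ⟶ T, (yon S).map a ≫ c = g ∧ (yon S).map b ≫ c = k := by
  have hg : Ferrand.GluedBy i.left j.left a.left b.left :=
    .of_isPushout (Ferrand.cover_of_integral i.left j.left haff) hpo
  have h₁ : IsColimit ((Over.forget S).mapCocone (PushoutCocone.mk a b w)) :=
    (isColimitMapCoconePushoutCoconeEquiv (Over.forget S) w).symm hpo.isColimit
  let ξ : ∀ l : WalkingSpan, (yon S).obj ((span i j).obj l) ⟶ T := fun l =>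
    match l with
    | zero => (yon S).map i ≫ g
    | left => g
    | right => k
  obtain ⟨c, hc, hu⟩ := AlgSpColimit.existsUnique_desc (D := span i j)
    (c := PushoutCocone.mk a b w) h₁
    (fun x => by
      rcases hg.surj x with ⟨y, hy⟩ | ⟨y, hy⟩
      · exact ⟨left, y, hy⟩
      · exact ⟨right, y, hy⟩)
    (fun D' α c' e he sq => nonempty_isColimit_baseChange hg w D' α c' e he sq)
    (fun D' α hα he hs => exists_etale_glue haff hpo w D' α hα he hs) hT ξ (by
      rintro _ _ (_ | (_ | _))
      · simp
      · rfl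
      · exact hgk.symm)
  refine ⟨c, ⟨hc left, hc right⟩, fun c₂ hc₂ => hu c₂ ?_⟩
  rintro (_ | _ | _)
  · show (yon S).map (i ≫ a) ≫ c₂ = _
    rw [Functor.map_comp, Category.assoc, hc₂.1]
    rfl
  · exact hc₂.1
  · exact hc₂.2

end Groth.Agent.Lib.FerrandEtale
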